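import Cfsg.Agent.H141.Rg.Defs
import Cfsg.Agent.S0713

/-!
# S5714, task 4634: almost all pairs generate the alternating groups

`alt_gen_of` : the three statistics of permutations (`cycle_pow`, `not_trans`, `not_prim`) as hypotheses.
-/

set_option autoImplicit false

namespace Cfsg.Agent.H692.Rg

open Cfsg Cfsg.Agent.OrdDiv Cfsg.Agent.H436 Cfsg.Agent.H141.Rg MulAction

/-- the conclusion of `cycle_pow` -/
def CyclePow : Prop := ∀ ε : ℝ, 0 < ε → ∃ N : ℕ, ∀ n : ℕ, N ≤ n → (1 - ε) * (n.factorial : ℝ) ≤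
    Nat.card {x : Equiv.Perm (Fin n) // ∃ m p : ℕ, p.Prime ∧ p + 3 ≤ n ∧ (x ^ m).IsCycle ∧ (x ^ m).support.card = p}

/-- the conclusion of `not_trans` -/
def NotTrans : Prop := ∀ ε : ℝ, 0 < ε → ∃ N : ℕ, ∀ n : ℕ, N ≤ n →
    (Nat.card {xy : Equiv.Perm (Fin n) × Equiv.Perm (Fin n) //
      ¬ MulAction.IsPretransitive (Subgroup.closure {xy.1, xy.2}) (Fin n)} : ℝ) ≤ ε * (n.factorial : ℝ) ^ 2

/-- the conclusion of `not_prim` -/
def NotPrim : Prop := ∀ ε : ℝ, 0 < ε → ∃ N : ℕ, ∀ n : ℕ, N ≤ n →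
    (Nat.card {xy : Equiv.Perm (Fin n) × Equiv.Perm (Fin n) //
      MulAction.IsPretransitive (Subgroup.closure {xy.1, xy.2}) (Fin n) ∧
      ¬ MulAction.IsPreprimitive (Subgroup.closure {xy.1, xy.2}) (Fin n)} : ℝ) ≤ ε * (n.factorial : ℝ) ^ 2

/-- generation by Jordan's theorem -/
theorem closure_eq_top {n : ℕ} (hn : 5 ≤ n) {T : Type} [Group T] (e : T ≃* ↥(alternatingGroup (Fin n))) {x y : T}
    (hprim : MulAction.IsPreprimitive (Subgroup.closure {(e x : Equiv.Perm (Fin n)), (e y : Equiv.Perm (Fin n))}) (Fin n))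
    (hc : ∃ m p : ℕ, p.Prime ∧ p + 3 ≤ n ∧ ((e x : Equiv.Perm (Fin n)) ^ m).IsCycle ∧
      ((e x : Equiv.Perm (Fin n)) ^ m).support.card = p) : Subgroup.closure {x, y} = ⊤ := by
  obtain ⟨m, p, hp, hpn, h1, h2⟩ := hc
  have h3 := Cfsg.Agent.S0713.result (Subgroup.closure {(e x : Equiv.Perm (Fin n)), (e y : Equiv.Perm (Fin n))}) hprim hp
    (by rwa [Fintype.card_fin]) (by rwa [Fintype.card_fin]) h1 h2 (pow_mem (Subgroup.subset_closure (Set.mem_insert _ _)) m)
  let f : T →* Equiv.Perm (Fin n) := (alternatingGroup (Fin n)).subtype.comp e.toMonoidHom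
  have hf : Function.Injective f := fun a b hab => e.injective (Subtype.ext hab)
  have h4 : (Subgroup.closure {x, y}).map f = Subgroup.closure {(e x : Equiv.Perm (Fin n)), (e y : Equiv.Perm (Fin n))} := by
    rw [MonoidHom.map_closure, Set.image_pair]
    rfl
  rw [← h4] at h3
  rw [eq_top_iff]
  intro g _
  obtain ⟨g', hg', hgg⟩ := h3 (e g).2
  rwa [← hf hgg]

/-- **Almost all pairs generate the alternating groups** (task 4634), the statistics as hypotheses. -/
theorem alt_gen_of (hcp : CyclePow) (hnt : NotTrans) (hnp : NotPrim) : FamGen (fun g => ∃ n, g = .alt n) := by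
  intro ε hε
  obtain ⟨N1, h1⟩ := hcp (ε / 10) (by positivity)
  obtain ⟨N2, h2⟩ := hnt (ε / 10) (by positivity)
  obtain ⟨N3, h3⟩ := hnp (ε / 10) (by positivity)
  refine ⟨(N1 + N2 + N3).factorial, ?_⟩
  rintro g T _ _ _ hT ⟨n, rfl⟩ hD
  obtain ⟨e⟩ := hT.real
  have hn5 : 5 ≤ n := hT.cond
  have hcard : 2 * Nat.card T = n.factorial := hT.eq
  have hN : N1 + N2 + N3 ≤ n := by
    by_contra hc
    push Not at hc
    have h4 := Nat.factorial_le hc.le
    have h5 : 0 < Nat.card T := Nat.card_pos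
    omega
  have hcR : (n.factorial : ℝ) = 2 * (Nat.card T : ℝ) := by
    rw [← hcard]
    push_cast
    ring
  have hfc : (Nat.card (Equiv.Perm (Fin n)) : ℝ) = 2 * (Nat.card T : ℝ) := by
    rw [Nat.card_eq_fintype_card, Fintype.card_perm, Fintype.card_fin, hcR]
  -- the three bad sets
  let P : Equiv.Perm (Fin n) → Prop := fun x => ∃ m p : ℕ, p.Prime ∧ p + 3 ≤ n ∧ (x ^ m).IsCycle ∧
    (x ^ m).support.card = p
  have e1 : (1 - ε / 10) * (n.factorial : ℝ) ≤ Nat.card {x : Equiv.Perm (Fin n) // P x} := h1 n (by omega)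
  have e1' : (Nat.card {x : Equiv.Perm (Fin n) // ¬ P x} : ℝ) ≤ ε / 10 * (2 * (Nat.card T : ℝ)) := by
    have h6 : Nat.card {x : Equiv.Perm (Fin n) // P x} + Nat.card {x : Equiv.Perm (Fin n) // ¬ P x} =
        Nat.card (Equiv.Perm (Fin n)) := by
      rw [← Nat.card_sum]
      classical
      exact Nat.card_congr (Equiv.sumCompl P)
    have h7 : (Nat.card {x : Equiv.Perm (Fin n) // P x} : ℝ) + Nat.card {x : Equiv.Perm (Fin n) // ¬ P x} =
        2 * (Nat.card T : ℝ) := by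
      rw [← hfc]
      exact_mod_cast h6
    rw [hcR] at e1
    linarith
  have e2 := h2 n (by omega)
  have e3 := h3 n (by omega)
  rw [hcR] at e2 e3
  set A := {xy : Equiv.Perm (Fin n) × Equiv.Perm (Fin n) //
      ¬ MulAction.IsPretransitive (Subgroup.closure {xy.1, xy.2}) (Fin n)} with hA
  set B := {xy : Equiv.Perm (Fin n) × Equiv.Perm (Fin n) //
      MulAction.IsPretransitive (Subgroup.closure {xy.1, xy.2}) (Fin n) ∧
      ¬ MulAction.IsPreprimitive (Subgroup.closure {xy.1, xy.2}) (Fin n)} with hB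
  set C := {x : Equiv.Perm (Fin n) // ¬ P x} with hC
  have key : Nat.card {xy : T × T // ¬ Subgroup.closure {xy.1, xy.2} = ⊤} ≤ Nat.card A + Nat.card B +
      Nat.card C * Nat.card T := by
    rw [← Nat.card_prod, ← Nat.card_sum, ← Nat.card_sum]
    classical
    have hsp : ∀ xy : {xy : T × T // ¬ Subgroup.closure {xy.1, xy.2} = ⊤},
        ¬ (MulAction.IsPreprimitive (Subgroup.closure {(e xy.1.1 : Equiv.Perm (Fin n)), (e xy.1.2 : Equiv.Perm (Fin n))})
          (Fin n) ∧ P (e xy.1.1 : Equiv.Perm (Fin n))) := fun xy h => xy.2 (closure_eq_top hn5 e h.1 h.2)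
    let F : {xy : T × T // ¬ Subgroup.closure {xy.1, xy.2} = ⊤} → (A ⊕ B) ⊕ (C × T) := fun xy =>
      if ha : ¬ MulAction.IsPretransitive (Subgroup.closure {(e xy.1.1 : Equiv.Perm (Fin n)), (e xy.1.2 : Equiv.Perm (Fin n))})
          (Fin n) then Sum.inl (Sum.inl ⟨((e xy.1.1 : Equiv.Perm (Fin n)), (e xy.1.2 : Equiv.Perm (Fin n))), ha⟩)
      else if hb : ¬ MulAction.IsPreprimitive
          (Subgroup.closure {(e xy.1.1 : Equiv.Perm (Fin n)), (e xy.1.2 : Equiv.Perm (Fin n))}) (Fin n) then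
        Sum.inl (Sum.inr ⟨((e xy.1.1 : Equiv.Perm (Fin n)), (e xy.1.2 : Equiv.Perm (Fin n))), not_not.1 ha, hb⟩)
      else Sum.inr (⟨(e xy.1.1 : Equiv.Perm (Fin n)), fun hc => hsp xy ⟨not_not.1 hb, hc⟩⟩, xy.1.2)
    apply Nat.card_le_card_of_injective F
    have hinj : ∀ a b : T, (e a : Equiv.Perm (Fin n)) = (e b : Equiv.Perm (Fin n)) → a = b :=
      fun a b hab => e.injective (Subtype.ext hab)
    intro xy xy' h
    simp only [F] at h
    apply Subtype.ext
    apply Prod.ext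
    all_goals
      split_ifs at h <;> simp only [Sum.inl.injEq, Sum.inr.injEq, Prod.mk.injEq, reduceCtorEq] at h
    · exact hinj _ _ (congrArg (Subtype.val : C → Equiv.Perm (Fin n)) h.1)
    · exact hinj _ _ (congrArg Prod.fst (congrArg Subtype.val h))
    · exact hinj _ _ (congrArg Prod.fst (congrArg Subtype.val h))
    · exact h.2
    · exact hinj _ _ (congrArg Prod.snd (congrArg Subtype.val h))
    · exact hinj _ _ (congrArg Prod.snd (congrArg Subtype.val h))
  have hsum : gp T + Nat.card {xy : T × T // ¬ Subgroup.closure {xy.1, xy.2} = ⊤} = Nat.card T * Nat.card T := by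
    rw [← Nat.card_prod, gp, ← Nat.card_sum]
    classical
    exact Nat.card_congr (Equiv.sumCompl fun xy : T × T => Subgroup.closure {xy.1, xy.2} = ⊤)
  have hsumR : (gp T : ℝ) + Nat.card {xy : T × T // ¬ Subgroup.closure {xy.1, xy.2} = ⊤} =
      (Nat.card T : ℝ) * Nat.card T := by exact_mod_cast hsum
  have keyR : (Nat.card {xy : T × T // ¬ Subgroup.closure {xy.1, xy.2} = ⊤} : ℝ) ≤ Nat.card A + Nat.card B +
      Nat.card C * Nat.card T := by exact_mod_cast key
  have hT0 : (0 : ℝ) ≤ Nat.card T := Nat.cast_nonneg _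
  have e4 : (Nat.card C : ℝ) * Nat.card T ≤ ε / 10 * (2 * (Nat.card T : ℝ)) * Nat.card T :=
    mul_le_mul_of_nonneg_right e1' hT0
  nlinarith

end Cfsg.Agent.H692.Rg
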